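import Mathlib
import Cfsg.Prelude.Def_GeometricClasses
import Cfsg.Agent.Helper24.S5704.Defs

set_option autoImplicit false
set_option linter.unusedSectionVars false
set_option linter.unusedVariables false

/-! # S5704, chapter STAR' (driver helper17): definitions.

`Hz e GW z₀ z = XW (z₀ + z) 1 * XW z₀ (-1) * XW z (-1)` is the Heisenberg element `1 ⊗ h` of `H`,
`h z = z`, `h w = w + bf GW w z₀ • z` for `w ⊥ z` (when `z₀ ⊥ z`). -/

namespace Cfsg.Agent.S5704P

open Matrix Cfsg.Agent.S5637P Cfsg.Agent.S5704S Cfsg.Agent.S5634P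

variable {F : Type*} [Field F] {n a b : ℕ} (e : Fin n ≃ Fin a × Fin b)

/-- the Heisenberg element of `H` at `z` with parameter `z₀ ⊥ z` -/
noncomputable def Hz (GW : Matrix (Fin b) (Fin b) F) (z₀ z : Fin b → F) : GL (Fin n) F :=
  XW e GW (z₀ + z) 1 * XW e GW z₀ (-1) * XW e GW z (-1)

end Cfsg.Agent.S5704P
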