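import Mathlib
import Cfsg.Prelude.Def_GeometricClasses
import Cfsg.Agent.Helper24.S5704.Defs
import Cfsg.Agent.Helper17.S5704.STDefs
import Cfsg.Agent.Lead.S5637STARALPHA
import Cfsg.Agent.Helper11.S5704STKRISO
import Cfsg.Agent.Helper17.S5704STFIN
import Cfsg.Agent.Helper20.S5704STLIN
import Cfsg.Agent.Helper19.S5704STPOL
import Cfsg.Agent.Helper11.S5704STKZ
import Cfsg.Agent.Helper9.S5704STEXT
import Cfsg.Agent.Helper4.S5704STISOPOL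
import Cfsg.Agent.Helper10.S5704STTAU
import Cfsg.Agent.Helper13.S5704STCONJ
import Cfsg.Agent.Helper11.S5704STHEIS
import Cfsg.Agent.Helper25.S5704STPSI
import Cfsg.Agent.Helper9.S5704STMOVE
import Cfsg.Agent.Helper11.S5704STRADH
import Cfsg.Agent.Helper19.S5704STSIM

set_option autoImplicit false
set_option linter.unusedSectionVars false
set_option linter.unusedVariables false

/-! # S5704, chapter STAR' (driver helper17; architecture helper24): assembly.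

`STARP.main`: if `M` has no non-Kronecker element in a radical `Q_z` (`¬ BAD`), then every `y ∈ M` mapping some `V_z` onto some `V_z'`
is a Kronecker product. -/

namespace Cfsg.Agent.S5704P

open Matrix Cfsg.Agent.S5637P Cfsg.Agent.S5704S Cfsg.Agent.S5634P

variable {F : Type*} [Field F] {n a b : ℕ} (e : Fin n ≃ Fin a × Fin b)

theorem STARP.omegaGL_le_iso (Q : (Fin n → F) → F) :
    Cfsg.Geo.omegaGL Q ≤ Cfsg.isometryGroup F Q := by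
  intro g hg
  unfold Cfsg.Geo.omegaGL at hg
  obtain ⟨h, _, rfl⟩ := Subgroup.mem_map.mp hg
  exact h.2

theorem STARP.gmap_inv {y : GL (Fin n) F} {S : Submodule F (Fin n → F)} (h : gmap y S = S) :
    gmap y⁻¹ S = S := by
  conv_lhs => rw [← h]
  rw [← gmap_mul, inv_mul_cancel, gmap_one]

/-- the relation `hR'` -/
theorem STARP.rel {Q : QuadraticForm F (Fin n → F)} {GU : Matrix (Fin a) (Fin a) F}
    {GW : Matrix (Fin b) (Fin b) F} (hT : TData Q e 1 GU GW) (ha : 1 ≤ a)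
    (M : Subgroup (GL (Fin n) F))
    (hroot : ∀ (v : Fin b → F) (c : F), XW e GW v c ∈ M)
    (hbad : ¬ BAD e GW M) {y : GL (Fin n) F} (hy : y ∈ M)
    (hyiso : y ∈ Cfsg.isometryGroup F ⇑Q) {z : Fin b → F} (hz : z ≠ 0)
    (hyz : gmap y (Vw e z) = Vw e z) (α : GL (Fin a) F)
    (hα : ∀ u : Fin a → F,
      (y : Matrix (Fin n) (Fin n) F) *ᵥ tn e u z = tn e ((α : Matrix (Fin a) (Fin a) F) *ᵥ u) z) :
    ∀ ψ : Fin b → F, ψ ⬝ᵥ z = 0 → ∃ ψ' : Fin b → F, ψ' ⬝ᵥ z = 0 ∧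
      ∀ x : Fin n → F, cps e (psi GW z) x = 0 →
        (α : Matrix (Fin a) (Fin a) F) *ᵥ cps e ψ x =
          cps e ψ' ((y : Matrix (Fin n) (Fin n) F) *ᵥ x) := by
  intro ψ hψ
  have hW := hT.sympW
  obtain ⟨z₀, rfl⟩ := STPSI hW ψ
  have h0 : bf GW z₀ z = 0 := by
    rw [psi_dot] at hψ
    exact hW.eq_zero_symm hψ
  obtain ⟨hs1, hs2⟩ := STHEIS e hW h0
  have hyK := STKZ e hT hyiso hyz
  have hyinv : y⁻¹ ∈ Cfsg.isometryGroup F ⇑Q := Subgroup.inv_mem _ hyiso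
  have hyK' := STKZ e hT hyinv (STARP.gmap_inv hyz)
  obtain ⟨hrad, hact⟩ := STCONJ e hW hz hyz hyK' α hα (psi GW z₀) hs1 hs2
  have hsM : Hz e GW z₀ z ∈ M := by
    unfold Hz
    exact M.mul_mem (M.mul_mem (hroot _ _) (hroot _ _)) (hroot _ _)
  have hcM : y * Hz e GW z₀ z * y⁻¹ ∈ M := M.mul_mem (M.mul_mem hy hsM) (M.inv_mem hy)
  have hKr : y * Hz e GW z₀ z * y⁻¹ ∈ Kr e := by
    by_contra hn
    exact hbad ⟨z, hz, _, hcM, hrad, hn⟩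
  obtain ⟨ψ', hψ'z, hψ'⟩ := STRADH e hW ha hz hKr hrad
  refine ⟨ψ', hψ'z, ?_⟩
  intro x hx
  have h1 := hact x hx
  have h2 := hψ' _ (hyK x hx)
  rw [h1] at h2
  exact tn_left_injective e hz h2

/-- STAR' when `z' = z` -/
theorem STARP.same {Q : QuadraticForm F (Fin n → F)} {GU : Matrix (Fin a) (Fin a) F}
    {GW : Matrix (Fin b) (Fin b) F} (hT : TData Q e 1 GU GW) (ha : 2 ≤ a) (hb : 4 ≤ b)
    (M : Subgroup (GL (Fin n) F)) (hH : Kr e ⊓ Cfsg.Geo.omegaGL ⇑Q ≤ M)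
    (hM : M ≤ Cfsg.Geo.omegaGL ⇑Q)
    (hroot : ∀ (v : Fin b → F) (c : F), XW e GW v c ∈ Cfsg.Geo.omegaGL ⇑Q)
    (hQZ : ∀ (g : GL (Fin n) F) (z : Fin b → F), z ≠ 0 → g ∈ Cfsg.isometryGroup F ⇑Q →
      RadAt e GW z g → g ∈ Cfsg.Geo.omegaGL ⇑Q)
    (hbad : ¬ BAD e GW M) {y : GL (Fin n) F} (hy : y ∈ M) {z : Fin b → F} (hz : z ≠ 0)
    (hyz : gmap y (Vw e z) = Vw e z) : y ∈ Kr e := by
  have hW := hT.sympW
  have ha1 : 1 ≤ a := le_trans (by norm_num) ha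
  have hrootM : ∀ (v : Fin b → F) (c : F), XW e GW v c ∈ M := fun v c =>
    hH ⟨XW_mem_Kr e hW v c, hroot v c⟩
  have hyiso : y ∈ Cfsg.isometryGroup F ⇑Q := STARP.omegaGL_le_iso _ (hM hy)
  obtain ⟨α, hα⟩ := STARALPHA e hz y hyz
  have hyK := STKZ e hT hyiso hyz
  have hyinv : y⁻¹ ∈ Cfsg.isometryGroup F ⇑Q := Subgroup.inv_mem _ hyiso
  have hyK' := STKZ e hT hyinv (STARP.gmap_inv hyz)
  have hR := STARP.rel e hT ha1 M hrootM hbad hy hyiso hz hyz α hα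
  obtain ⟨B, hBz, hBψ, hB⟩ := STTAU e hW ha1 hz y α hyK hyK' hR
  have hlin := STLIN e hz y α B hB
  obtain ⟨μ, hμ, hαsim, hBsim⟩ := STSIM e hT ha hb hz hyiso α B hBψ hlin
  obtain ⟨B', hB'z, hBB', hB'sim⟩ := STEXT hW hz B hBz hBψ (inv_ne_zero hμ) hBsim
  have hkiso : krg e α B' ∈ Cfsg.isometryGroup F ⇑Q := STKRISO e hT α B' hμ hαsim hB'sim
  have hrad : RadAt e GW z ((krg e α B')⁻¹ * y) := STFIN e hW hz y α B B' hα hB'z hBB' hlin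
  have hriso : (krg e α B')⁻¹ * y ∈ Cfsg.isometryGroup F ⇑Q :=
    Subgroup.mul_mem _ (Subgroup.inv_mem _ hkiso) hyiso
  have hrΩ : (krg e α B')⁻¹ * y ∈ Cfsg.Geo.omegaGL ⇑Q := hQZ _ z hz hriso hrad
  have hkΩ : krg e α B' ∈ Cfsg.Geo.omegaGL ⇑Q := by
    have : krg e α B' = y * ((krg e α B')⁻¹ * y)⁻¹ := by group
    rw [this]
    exact Subgroup.mul_mem _ (hM hy) (Subgroup.inv_mem _ hrΩ)
  have hkM : krg e α B' ∈ M := hH ⟨krg_mem_Kr e α B', hkΩ⟩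
  have hrM : (krg e α B')⁻¹ * y ∈ M := M.mul_mem (M.inv_mem hkM) hy
  have hrKr : (krg e α B')⁻¹ * y ∈ Kr e := by
    by_contra hn
    exact hbad ⟨z, hz, _, hrM, hrad, hn⟩
  have : y = krg e α B' * ((krg e α B')⁻¹ * y) := by group
  rw [this]
  exact (Kr e).mul_mem (krg_mem_Kr e α B') hrKr

/-- **STAR'**: `¬ BAD M`, `y ∈ M`, `y V_z = V_z'` ⟹ `y` is a Kronecker product. -/
theorem STARP.main {Q : QuadraticForm F (Fin n → F)} {GU : Matrix (Fin a) (Fin a) F}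
    {GW : Matrix (Fin b) (Fin b) F} (hT : TData Q e 1 GU GW) (ha : 2 ≤ a) (hb : 4 ≤ b)
    (M : Subgroup (GL (Fin n) F)) (hH : Kr e ⊓ Cfsg.Geo.omegaGL ⇑Q ≤ M)
    (hM : M ≤ Cfsg.Geo.omegaGL ⇑Q)
    (hroot : ∀ (v : Fin b → F) (c : F), XW e GW v c ∈ Cfsg.Geo.omegaGL ⇑Q)
    (hQZ : ∀ (g : GL (Fin n) F) (z : Fin b → F), z ≠ 0 → g ∈ Cfsg.isometryGroup F ⇑Q →
      RadAt e GW z g → g ∈ Cfsg.Geo.omegaGL ⇑Q)
    (hbad : ¬ BAD e GW M) {y : GL (Fin n) F} (hy : y ∈ M) {z z' : Fin b → F} (hz : z ≠ 0)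
    (hz' : z' ≠ 0) (hyz : gmap y (Vw e z) = Vw e z') : y ∈ Kr e := by
  have hW := hT.sympW
  have hrootM : ∀ (v : Fin b → F) (c : F), XW e GW v c ∈ M := fun v c =>
    hH ⟨XW_mem_Kr e hW v c, hroot v c⟩
  obtain ⟨D, hDM, hDKr, hD⟩ := STMOVE e hW M hrootM hz hz'
  have h1 : gmap (D * y) (Vw e z) = Vw e z := by
    rw [gmap_mul, hyz, hD]
  have h2 : D * y ∈ Kr e :=
    STARP.same e hT ha hb M hH hM hroot hQZ hbad (M.mul_mem hDM hy) hz h1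
  have : y = D⁻¹ * (D * y) := by group
  rw [this]
  exact (Kr e).mul_mem ((Kr e).inv_mem hDKr) h2

end Cfsg.Agent.S5704P
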